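import Mathlib.Algebra.Homology.DerivedCategory.ExactFunctor

/-!
# An exact functor with an exact retraction and a natural zigzag is fully faithful on derived categories
-/

set_option autoImplicit false
set_option backward.isDefEq.respectTransparency false

universe w₁ w₂ v₁ v₂ u₁ u₂

open CategoryTheory Category Limits

noncomputable section

namespace Groth.Agent.FibSplit8

section Formal

variable {C : Type*} [Category* C] {D : Type*} [Category* D]

/-- A functor `θ` with a retraction `R` and a natural zigzag `id ⟶ T ⟵ R θ` invertible on the image of `θ`. -/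
theorem bijective_map_of_zigzag (θ : C ⥤ D) (R : D ⥤ C) (T : D ⥤ D) (e : θ ⋙ R ≅ 𝟭 C) (a : 𝟭 D ⟶ T)
    (b : R ⋙ θ ⟶ T) (ha : ∀ K, IsIso (a.app (θ.obj K))) (hb : ∀ K, IsIso (b.app (θ.obj K))) (K L : C) :
    Function.Bijective fun g : K ⟶ L => θ.map g := by
  refine ⟨fun g g' h => ?_, fun h => ?_⟩
  · have hg := e.hom.naturality g
    have hg' := e.hom.naturality g'
    simp only [Functor.comp_map, Functor.id_map] at hg hg'
    rw [show θ.map g = θ.map g' from h, hg'] at hg
    exact ((cancel_epi (e.hom.app K)).1 hg).symm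
  · let c : ∀ K, θ.obj (R.obj (θ.obj K)) ≅ θ.obj K := fun K =>
      haveI := ha K; haveI := hb K
      asIso (b.app (θ.obj K)) ≪≫ (asIso (a.app (θ.obj K))).symm
    have hc : ∀ {K L : C} (h : θ.obj K ⟶ θ.obj L), θ.map (R.map h) ≫ (c L).hom = (c K).hom ≫ h := by
      intro K L h
      haveI := ha K; haveI := ha L
      have h1 := b.naturality h
      have h2 := a.naturality h
      simp only [Functor.comp_map, Functor.id_map] at h1 h2
      simp only [c, Iso.trans_hom, asIso_hom, Iso.symm_hom, asIso_inv]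
      rw [← assoc, h1, assoc, assoc]
      congr 1
      rw [← cancel_epi (a.app (θ.obj K)), ← assoc, ← h2, assoc, IsIso.hom_inv_id, comp_id,
        IsIso.hom_inv_id_assoc]
    let c' : ∀ K, θ.obj K ≅ θ.obj K := fun K => θ.mapIso (e.app K).symm ≪≫ c K
    have hc' : ∀ {K L : C} (x : K ⟶ L), θ.map x ≫ (c' L).hom = (c' K).hom ≫ θ.map x := by
      intro K L x
      simp only [c', Iso.trans_hom, Functor.mapIso_hom, Iso.symm_hom, Iso.app_inv, assoc]
      have hx := e.inv.naturality x
      simp only [Functor.comp_map, Functor.id_map] at hx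
      rw [← Functor.map_comp_assoc, hx, Functor.map_comp_assoc, hc]
    refine ⟨e.inv.app K ≫ R.map h ≫ e.hom.app L, ?_⟩
    change θ.map _ = h
    refine (cancel_epi (c' K).hom).1 ?_
    rw [← hc']
    simp only [c', Iso.trans_hom, Functor.mapIso_hom, Iso.symm_hom, Iso.app_inv, assoc, Functor.map_comp]
    rw [← θ.map_comp_assoc (e.hom.app L) (e.inv.app L), Iso.hom_inv_id_app]
    erw [θ.map_id, id_comp]
    rw [hc]

end Formal

variable {A : Type u₁} [Category.{v₁} A] [Abelian A] [HasDerivedCategory.{w₁} A]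
  {B : Type u₂} [Category.{v₂} B] [Abelian B] [HasDerivedCategory.{w₂} B]

local notation:max "cx" F:max => Functor.mapHomologicalComplex F (ComplexShape.up ℤ)

/-- `mapHomologicalComplex` of a composite. -/
def mapHCCompIso {U V W : Type*} [Category* U] [Category* V] [Category* W] [Preadditive U] [Preadditive V]
    [Preadditive W] (F : U ⥤ V) (G : V ⥤ W) [F.Additive] [G.Additive] :
    (cx F) ⋙ (cx G) ≅ cx (F ⋙ G) :=
  NatIso.ofComponents (fun K => HomologicalComplex.Hom.isoOfComponents (fun _ => Iso.refl _)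
    (fun _ _ _ => by simp)) (fun f => by ext; simp)

theorem bijective_mapDerivedCategory_of_zigzag (θ : A ⥤ B) (R : B ⥤ A) (T : B ⥤ B)
    [θ.Additive] [PreservesFiniteLimits θ] [PreservesFiniteColimits θ]
    [R.Additive] [PreservesFiniteLimits R] [PreservesFiniteColimits R]
    [T.Additive] [PreservesFiniteLimits T] [PreservesFiniteColimits T]
    (e : θ ⋙ R ≅ 𝟭 A) (a : 𝟭 B ⟶ T) (b : R ⋙ θ ⟶ T) (ha : ∀ X, IsIso (a.app (θ.obj X)))
    (hb : ∀ X, IsIso (b.app (θ.obj X))) (K L : DerivedCategory A) :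
    Function.Bijective fun g : K ⟶ L => θ.mapDerivedCategory.map g := by
  let WA := HomologicalComplex.quasiIso A (ComplexShape.up ℤ)
  let WB := HomologicalComplex.quasiIso B (ComplexShape.up ℤ)
  letI l1 : Localization.Lifting DerivedCategory.Q WA (cx (θ ⋙ R) ⋙ DerivedCategory.Q)
      (θ.mapDerivedCategory ⋙ R.mapDerivedCategory) :=
    ⟨(Functor.associator _ _ _).symm ≪≫ Functor.isoWhiskerRight θ.mapDerivedCategoryFactors _ ≪≫
      Functor.associator _ _ _ ≪≫ Functor.isoWhiskerLeft _ R.mapDerivedCategoryFactors ≪≫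
      (Functor.associator _ _ _).symm ≪≫ Functor.isoWhiskerRight (mapHCCompIso θ R) _⟩
  letI l2 : Localization.Lifting DerivedCategory.Q WA (cx (𝟭 A) ⋙ DerivedCategory.Q) (𝟭 (DerivedCategory A)) :=
    ⟨Functor.rightUnitor _ ≪≫ (Functor.leftUnitor _).symm ≪≫
      Functor.isoWhiskerRight (Functor.mapHomologicalComplexIdIso A (ComplexShape.up ℤ)).symm _⟩
  letI l3 : Localization.Lifting DerivedCategory.Q WB (cx (𝟭 B) ⋙ DerivedCategory.Q) (𝟭 (DerivedCategory B)) :=
    ⟨Functor.rightUnitor _ ≪≫ (Functor.leftUnitor _).symm ≪≫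
      Functor.isoWhiskerRight (Functor.mapHomologicalComplexIdIso B (ComplexShape.up ℤ)).symm _⟩
  letI l4 : Localization.Lifting DerivedCategory.Q WB (cx (R ⋙ θ) ⋙ DerivedCategory.Q)
      (R.mapDerivedCategory ⋙ θ.mapDerivedCategory) :=
    ⟨(Functor.associator _ _ _).symm ≪≫ Functor.isoWhiskerRight R.mapDerivedCategoryFactors _ ≪≫
      Functor.associator _ _ _ ≪≫ Functor.isoWhiskerLeft _ θ.mapDerivedCategoryFactors ≪≫
      (Functor.associator _ _ _).symm ≪≫ Functor.isoWhiskerRight (mapHCCompIso R θ) _⟩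
  let e' : θ.mapDerivedCategory ⋙ R.mapDerivedCategory ≅ 𝟭 (DerivedCategory A) :=
    Localization.liftNatIso DerivedCategory.Q WA (cx (θ ⋙ R) ⋙ DerivedCategory.Q)
      (cx (𝟭 A) ⋙ DerivedCategory.Q) _ _
      (Functor.isoWhiskerRight (NatIso.mapHomologicalComplex e _) _)
  let a' : 𝟭 (DerivedCategory B) ⟶ T.mapDerivedCategory :=
    Localization.liftNatTrans DerivedCategory.Q WB (cx (𝟭 B) ⋙ DerivedCategory.Q)
      ((cx T) ⋙ DerivedCategory.Q) _ _
      (Functor.whiskerRight (NatTrans.mapHomologicalComplex a _) _)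
  let b' : R.mapDerivedCategory ⋙ θ.mapDerivedCategory ⟶ T.mapDerivedCategory :=
    Localization.liftNatTrans DerivedCategory.Q WB (cx (R ⋙ θ) ⋙ DerivedCategory.Q)
      ((cx T) ⋙ DerivedCategory.Q) _ _
      (Functor.whiskerRight (NatTrans.mapHomologicalComplex b _) _)
  have key : ∀ {F : DerivedCategory B ⥤ DerivedCategory B} (τ : F ⟶ T.mapDerivedCategory),
      (∀ M : CochainComplex A ℤ, IsIso (τ.app (DerivedCategory.Q.obj ((cx θ).obj M)))) →
      ∀ K, IsIso (τ.app (θ.mapDerivedCategory.obj K)) := by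
    intro F τ h K
    have i := θ.mapDerivedCategory.mapIso (DerivedCategory.Q.objObjPreimageIso K).symm ≪≫
      θ.mapDerivedCategoryFactors.app (DerivedCategory.Q.objPreimage K)
    exact (NatTrans.isIso_app_iff_of_iso τ i).2 (h _)
  refine bijective_map_of_zigzag θ.mapDerivedCategory R.mapDerivedCategory T.mapDerivedCategory e' a' b'
    (key a' fun M => ?_) (key b' fun M => ?_) K L
  · haveI : IsIso ((NatTrans.mapHomologicalComplex a (ComplexShape.up ℤ)).app ((cx θ).obj M)) :=
      haveI : ∀ i, IsIso (((NatTrans.mapHomologicalComplex a (ComplexShape.up ℤ)).app ((cx θ).obj M)).f i) :=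
        fun i => ha (M.X i)
      HomologicalComplex.Hom.isIso_of_components _
    simp only [a', Localization.liftNatTrans_app, Functor.whiskerRight_app]
    infer_instance
  · haveI : IsIso ((NatTrans.mapHomologicalComplex b (ComplexShape.up ℤ)).app ((cx θ).obj M)) :=
      haveI : ∀ i, IsIso (((NatTrans.mapHomologicalComplex b (ComplexShape.up ℤ)).app ((cx θ).obj M)).f i) :=
        fun i => hb (M.X i)
      HomologicalComplex.Hom.isIso_of_components _
    simp only [b', Localization.liftNatTrans_app, Functor.whiskerRight_app]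
    infer_instance

end Groth.Agent.FibSplit8
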