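import Groth.Agent.Lib.FibSplit8.Maps
import Groth.Agent.Lib.FibSplit8.DerivedFF

/-!
# A split augmented family of spaces is of cohomological descent
-/

set_option autoImplicit false
set_option backward.isDefEq.respectTransparency false
set_option backward.isDefEq.respectTransparency.types false
set_option synthInstance.maxHeartbeats 400000
set_option maxHeartbeats 1000000

universe u

open CategoryTheory CategoryTheory.Limits Opposite TopologicalSpace Pseudofunctor.CoGrothendieck FibDesc

noncomputable section

namespace Groth.Agent.FibSplit8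

variable {D : Type} [Category.{0} D] {Y : (WithInitial D)ᵒᵖ ⥤ TopCat.{u}} (S : Splitting Y)

local notation "FY" => topAug Y
local notation "JY" => topAugTop Y

/-- Sheaves on the part. -/
abbrev PSh (Y : (WithInitial D)ᵒᵖ ⥤ TopCat.{u}) := DSh (topAug Y) (topAugTop Y) AddCommGrpCat.{u}

/-- Restriction to the part. -/
abbrev inclR (Y : (WithInitial D)ᵒᵖ ⥤ TopCat.{u}) : TSh Y ⥤ PSh Y :=
  (incl (topAug Y)).sheafPushforwardContinuous AddCommGrpCat.{u} (totPart (topAug Y) (topAugTop Y))
    (totAug (topAug Y) (topAugTop Y))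

/-- Restriction along the shift. -/
abbrev shiftPush : PSh Y ⥤ TSh S.Y' :=
  (shiftFunctor S).sheafPushforwardContinuous AddCommGrpCat.{u} (totAug (topAug S.Y') (topAugTop S.Y'))
    (totPart FY JY)

/-- Inverse image along the section. -/
abbrev sectPull : TSh S.Y' ⥤ TSh Y :=
  (sectFunctor S).sheafPullback AddCommGrpCat.{u} (totAug (topAug S.Y') (topAugTop S.Y')) (totAug FY JY)

/-- The adjunction of the section. -/
abbrev sectAdj : sectPull S ⊣ (sectFunctor S).sheafPushforwardContinuous AddCommGrpCat.{u}
    (totAug (topAug S.Y') (topAugTop S.Y')) (totAug FY JY) :=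
  (sectFunctor S).sheafAdjunctionContinuous AddCommGrpCat.{u} (totAug (topAug S.Y') (topAugTop S.Y'))
    (totAug FY JY)

/-- The pulled back shift. -/
abbrev decP : PSh Y ⥤ TSh Y := shiftPush S ⋙ sectPull S

/-- The component of the unit. -/
abbrev unitApp (N : PSh Y) (Z : ∫ᶜ (topAug S.Y')) :
    N.obj.obj (op ((shiftFunctor S).obj Z)) ⟶ ((decP S).obj N).obj.obj (op ((sectFunctor S).obj Z)) :=
  ((sectAdj S).unit.app ((shiftPush S).obj N)).hom.app (op Z)

theorem unitApp_naturality (N : PSh Y) {Z Z' : ∫ᶜ (topAug S.Y')} (g : Z ⟶ Z') :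
    N.obj.map ((shiftFunctor S).map g).op ≫ unitApp S N Z =
      unitApp S N Z' ≫ ((decP S).obj N).obj.map ((sectFunctor S).map g).op :=
  ((sectAdj S).unit.app ((shiftPush S).obj N)).hom.naturality g.op

theorem unitApp_hom_naturality {N N' : PSh Y} (φ : N ⟶ N') (Z : ∫ᶜ (topAug S.Y')) :
    φ.hom.app (op ((shiftFunctor S).obj Z)) ≫ unitApp S N' Z =
      unitApp S N Z ≫ ((decP S).map φ).hom.app (op ((sectFunctor S).obj Z)) :=
  congrArg (fun η => η.hom.app (op Z)) ((sectAdj S).unit.naturality ((shiftPush S).map φ))

/-- The transformation from the identity on the augmented total site. -/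
def aPlus : 𝟭 (TSh Y) ⟶ inclR Y ⋙ decP S where
  app M :=
    { hom :=
        { app := fun X => M.obj.map ((trans S).app X.unop).op ≫
            unitApp S ((inclR Y).obj M) ((projFunctor S).obj X.unop) ≫
            ((decP S).obj ((inclR Y).obj M)).obj.map ((projSectIso S).inv.app X.unop).op
          naturality := fun X Z g => by
            have h1 : M.obj.map g ≫ M.obj.map ((trans S).app Z.unop).op =
                M.obj.map ((trans S).app X.unop).op ≫
                  M.obj.map ((incl FY).map ((shiftFunctor S).map ((projFunctor S).map g.unop))).op :=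
              (M.obj.map_comp _ _).symm.trans ((congrArg M.obj.map
                (congrArg Quiver.Hom.op ((trans S).naturality g.unop).symm)).trans (M.obj.map_comp _ _))
            have h2 := unitApp_naturality S ((inclR Y).obj M) ((projFunctor S).map g.unop)
            have h3 : ((decP S).obj ((inclR Y).obj M)).obj.map
                ((sectFunctor S).map ((projFunctor S).map g.unop)).op ≫
                  ((decP S).obj ((inclR Y).obj M)).obj.map ((projSectIso S).inv.app Z.unop).op =
                ((decP S).obj ((inclR Y).obj M)).obj.map ((projSectIso S).inv.app X.unop).op ≫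
                  ((decP S).obj ((inclR Y).obj M)).obj.map g :=
              (Functor.map_comp _ _ _).symm.trans ((congrArg _
                (congrArg Quiver.Hom.op ((projSectIso S).inv.naturality g.unop).symm)).trans (Functor.map_comp _ _ _))
            change M.obj.map g ≫ _ ≫ _ ≫ _ = (_ ≫ _ ≫ _) ≫ _
            rw [← Category.assoc, h1, Category.assoc, Category.assoc, Category.assoc]
            exact congrArg (M.obj.map _ ≫ ·) ((Category.assoc _ _ _).symm.trans
              ((congrArg (· ≫ _) h2).trans ((Category.assoc _ _ _).trans (congrArg (_ ≫ ·) h3)))) } }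
  naturality M N φ := by
    apply Sheaf.hom_ext
    ext X : 2
    change φ.hom.app X ≫ N.obj.map ((trans S).app X.unop).op ≫
      unitApp S ((inclR Y).obj N) ((projFunctor S).obj X.unop) ≫ _ =
      (M.obj.map ((trans S).app X.unop).op ≫ unitApp S ((inclR Y).obj M) ((projFunctor S).obj X.unop) ≫ _) ≫ _
    rw [← Category.assoc, ← φ.hom.naturality, Category.assoc, Category.assoc, Category.assoc]
    refine congrArg (M.obj.map _ ≫ ·) ?_
    rw [← Category.assoc]
    refine (congrArg (· ≫ _) (unitApp_hom_naturality S ((inclR Y).map φ) _)).trans ?_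
    rw [Category.assoc]
    exact congrArg (_ ≫ ·) (((decP S).map ((inclR Y).map φ)).hom.naturality _).symm

/-- The transformation from the identity on the part. -/
def aPart : 𝟭 (PSh Y) ⟶ decP S ⋙ inclR Y where
  app N :=
    { hom :=
        { app := fun X => N.obj.map ((transPart S).app X.unop).op ≫
            unitApp S N ((projFunctor S).obj ((incl FY).obj X.unop)) ≫
            ((decP S).obj N).obj.map ((projSectIso S).inv.app ((incl FY).obj X.unop)).op
          naturality := fun X Z g => by
            have h1 : N.obj.map g ≫ N.obj.map ((transPart S).app Z.unop).op =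
                N.obj.map ((transPart S).app X.unop).op ≫
                  N.obj.map ((shiftFunctor S).map ((projFunctor S).map ((incl FY).map g.unop))).op :=
              (N.obj.map_comp _ _).symm.trans ((congrArg N.obj.map
                (congrArg Quiver.Hom.op ((transPart S).naturality g.unop).symm)).trans (N.obj.map_comp _ _))
            have h2 := unitApp_naturality S N ((projFunctor S).map ((incl FY).map g.unop))
            have h3 : ((decP S).obj N).obj.map
                ((sectFunctor S).map ((projFunctor S).map ((incl FY).map g.unop))).op ≫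
                  ((decP S).obj N).obj.map ((projSectIso S).inv.app ((incl FY).obj Z.unop)).op =
                ((decP S).obj N).obj.map ((projSectIso S).inv.app ((incl FY).obj X.unop)).op ≫
                  ((decP S).obj N).obj.map ((incl FY).map g.unop).op :=
              (Functor.map_comp _ _ _).symm.trans ((congrArg _ (congrArg Quiver.Hom.op
                ((projSectIso S).inv.naturality ((incl FY).map g.unop)).symm)).trans (Functor.map_comp _ _ _))
            change N.obj.map g ≫ _ ≫ _ ≫ _ = (_ ≫ _ ≫ _) ≫ ((decP S).obj N).obj.map ((incl FY).map g.unop).op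
            rw [← Category.assoc, h1, Category.assoc, Category.assoc, Category.assoc]
            exact congrArg (N.obj.map _ ≫ ·) ((Category.assoc _ _ _).symm.trans
              ((congrArg (· ≫ _) h2).trans ((Category.assoc _ _ _).trans (congrArg (_ ≫ ·) h3)))) } }
  naturality M N φ := by
    apply Sheaf.hom_ext
    ext X : 2
    change φ.hom.app X ≫ N.obj.map _ ≫ unitApp S _ _ ≫ _ = (M.obj.map _ ≫ unitApp S _ _ ≫ _) ≫ _
    rw [← Category.assoc, ← φ.hom.naturality, Category.assoc, Category.assoc, Category.assoc]
    refine congrArg (M.obj.map _ ≫ ·) ?_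
    rw [← Category.assoc]
    refine (congrArg (· ≫ _) (unitApp_hom_naturality S φ _)).trans ?_
    rw [Category.assoc]
    exact congrArg (_ ≫ ·) (((decP S).map φ).hom.naturality _).symm

theorem aPart_inclR (M : TSh Y) : (aPart S).app ((inclR Y).obj M) = (inclR Y).map ((aPlus S).app M) := by
  apply Sheaf.hom_ext
  ext X : 2
  change M.obj.map ((incl FY).map ((transPart S).app X.unop)).op ≫ _ ≫ _ =
    M.obj.map ((trans S).app ((incl FY).obj X.unop)).op ≫ _ ≫ _
  rw [incl_map_transPart]
  rfl

/-- The fibres of the shifted sheaf. -/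
def shiftRs (M : TSh Y) (i : (WithInitial D)ᵒᵖ) :
    (rs S.Y' i).obj ((shiftPush S).obj ((inclR Y).obj M)) ≅ (rs Y ((S.σ ⋙ toAug D).obj i)).obj M :=
  (fullyFaithfulSheafToPresheaf _ _).preimageIso (NatIso.ofComponents (fun U => Iso.refl _) fun g => by
    change M.obj.map _ ≫ 𝟙 _ = 𝟙 _ ≫ M.obj.map _
    rw [Category.comp_id, Category.id_comp]
    exact congrArg M.obj.map (Quiver.Hom.unop_inj (hom_ext Y ((S.σ ⋙ toAug D).map_id i))))

theorem cart_shift {M : TSh Y} (hM : Cart Y M) : Cart S.Y' ((shiftPush S).obj ((inclR Y).obj M)) := by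
  intro i A
  let f : (S.σ ⋙ toAug D).obj i ⟶ (S.σ ⋙ toAug D).obj (bot D) := (S.σ ⋙ toAug D).map (botTerminal.from i)
  let eA : ((rs S.Y' i).obj ((shiftPush S).obj ((inclR Y).obj M)) ⟶ A) ≃
      ((rs Y ((S.σ ⋙ toAug D).obj i)).obj M ⟶ A) := (shiftRs S M i).homFromEquiv
  let eB : ((rs Y ((S.σ ⋙ toAug D).obj (bot D))).obj M ⟶ (pushF Y f).obj A) ≃
      ((rs S.Y' (bot D)).obj ((shiftPush S).obj ((inclR Y).obj M)) ⟶ (pushE S.Y' i).obj A) :=
    (shiftRs S M (bot D)).symm.homFromEquiv
  refine (congrArg Function.Bijective (funext fun φ => ?_)).mp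
    ((eB.bijective.comp (bijective_trans Y f hM A)).comp eA.bijective)
  apply Sheaf.hom_ext
  ext U : 2
  have h : M.obj.map ((incl FY).map ((shiftFunctor S).map (toBot S.Y' i U.unop))).op =
      M.obj.map (cartArr Y f U.unop).op :=
    congrArg M.obj.map (congrArg Quiver.Hom.op (hom_ext Y rfl))
  change 𝟙 _ ≫ M.obj.map (cartArr Y f U.unop).op ≫ (𝟙 _ ≫ φ.hom.app _) = M.obj.map _ ≫ φ.hom.app _
  erw [Category.id_comp, Category.id_comp]

/-- The index of the shifted base fibre. -/
abbrev i₀ : (WithInitial D)ᵒᵖ := (S.σ ⋙ toAug D).obj (bot D)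

/-- The arrow `(bot, U) ⟶ s⁻¹(ε⁻¹ U)`. -/
def kArr (U : Opens (Y.obj (bot D))) :
    mkObj Y (bot D) U ⟶ (sectFunctor S).obj (mkObj S.Y' (bot D) ((Opens.map (epsMap Y (i₀ S))).obj U)) :=
  (projSectIso S).inv.app (mkObj Y (bot D) U) ≫ (sectFunctor S).map
    (homMk S.Y' (a := (projFunctor S).obj (mkObj Y (bot D) U))
      (b := mkObj S.Y' (bot D) ((Opens.map (epsMap Y (i₀ S))).obj U)) (𝟙 _) (le_of_eq (by
        rw [map_id_obj]
        change (Opens.map (Y.map (S.d.app (bot D)))).obj U = _
        rw [botTerminal.hom_ext (S.d.app (bot D)) (botTerminal.from _)]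
        rfl)))

instance (U : Opens (Y.obj (bot D))) : IsIso (kArr S U) := by
  refine ⟨homMk Y (a := (sectFunctor S).obj (mkObj S.Y' (bot D) ((Opens.map (epsMap Y (i₀ S))).obj U)))
    (b := mkObj Y (bot D) U) (𝟙 _) (le_of_eq ?_), hom_ext Y (botTerminal.hom_ext _ _), hom_ext Y (botTerminal.hom_ext _ _)⟩
  rw [map_id_obj]
  change (Opens.map (S.s.app (bot D))).obj ((Opens.map (epsMap Y (i₀ S))).obj U) = U
  rw [epsMap, ← botTerminal.hom_ext (S.d.app (bot D)) (botTerminal.from _)]
  exact sect_proj S (mkObj Y (bot D) U)

/-- Push forward along the section and restrict to the base. -/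
def kappaN (N : TSh Y) :
    (pushE Y (i₀ S)).obj ((rs S.Y' (bot D)).obj (((sectFunctor S).sheafPushforwardContinuous AddCommGrpCat.{u}
      (totAug (topAug S.Y') (topAugTop S.Y')) (totAug FY JY)).obj N)) ≅ (rs Y (bot D)).obj N :=
  (fullyFaithfulSheafToPresheaf _ _).preimageIso (NatIso.ofComponents
    (fun U => asIso (N.obj.map (kArr S U.unop).op)) fun g => by
      change N.obj.map _ ≫ N.obj.map _ = N.obj.map _ ≫ N.obj.map _
      rw [← N.obj.map_comp, ← N.obj.map_comp]
      exact congrArg N.obj.map (Quiver.Hom.unop_inj (hom_ext Y (botTerminal.hom_ext _ _))))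

theorem isIso_aPlus {M : TSh Y} (hM : Cart Y M) : IsIso ((aPlus S).app M) := by
  have hb : ∀ N, Function.Bijective fun χ : (decP S).obj ((inclR Y).obj M) ⟶ N => (aPlus S).app M ≫ χ := by
    intro N
    refine (Function.Bijective.of_comp_iff' (bijective_restr_bot Y hM N) _).1 ?_
    let e1 := (sectAdj S).homEquiv ((shiftPush S).obj ((inclR Y).obj M)) N
    have b1 := bijective_restr_bot S.Y' (cart_shift S hM) (((sectFunctor S).sheafPushforwardContinuous
      AddCommGrpCat.{u} (totAug (topAug S.Y') (topAugTop S.Y')) (totAug FY JY)).obj N)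
    have b2 := hM (i₀ S) ((rs S.Y' (bot D)).obj (((sectFunctor S).sheafPushforwardContinuous AddCommGrpCat.{u}
      (totAug (topAug S.Y') (topAugTop S.Y')) (totAug FY JY)).obj N))
    refine (congrArg Function.Bijective (funext fun χ => ?_)).mp
      (((kappaN S N).homToEquiv (Z := (rs Y (bot D)).obj M)).bijective.comp
        (b2.comp (((shiftRs S M (bot D)).homFromEquiv).bijective.comp (b1.comp e1.bijective))))
    apply Sheaf.hom_ext
    ext U : 2
    let V := (Opens.map (epsMap Y (i₀ S))).obj U.unop
    let w : (projFunctor S).obj (mkObj Y (bot D) U.unop) ⟶ mkObj S.Y' (bot D) V :=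
      homMk S.Y' (a := (projFunctor S).obj (mkObj Y (bot D) U.unop)) (b := mkObj S.Y' (bot D) V) (𝟙 _)
        (le_of_eq (by
          rw [map_id_obj]
          change (Opens.map (Y.map (S.d.app (bot D)))).obj U.unop = _
          rw [botTerminal.hom_ext (S.d.app (bot D)) (botTerminal.from _)]
          rfl))
    have hχ := χ.hom.naturality ((projSectIso S).inv.app (mkObj Y (bot D) U.unop) ≫ (sectFunctor S).map w).op
    have hu := unitApp_naturality S ((inclR Y).obj M) w
    have ht : M.obj.map ((trans S).app (mkObj Y (bot D) U.unop)).op =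
        M.obj.map (toBot Y (i₀ S) U.unop).op ≫ M.obj.map ((incl FY).map ((shiftFunctor S).map w)).op :=
      (congrArg M.obj.map (Quiver.Hom.unop_inj (hom_ext Y (botTerminal.hom_ext _ _)))).trans (M.obj.map_comp _ _)
    simp only [Function.comp_apply, Iso.homToEquiv_apply, Iso.homFromEquiv_apply, e1, Adjunction.homEquiv_unit]
    change (M.obj.map (toBot Y (i₀ S) U.unop).op ≫ (𝟙 _ ≫ (unitApp S ((inclR Y).obj M) (mkObj S.Y' (bot D) V) ≫
        χ.hom.app (op ((sectFunctor S).obj (mkObj S.Y' (bot D) V)))))) ≫
      N.obj.map (kArr S U.unop).op = (M.obj.map ((trans S).app (mkObj Y (bot D) U.unop)).op ≫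
        unitApp S ((inclR Y).obj M) ((projFunctor S).obj (mkObj Y (bot D) U.unop)) ≫
        ((decP S).obj ((inclR Y).obj M)).obj.map ((projSectIso S).inv.app (mkObj Y (bot D) U.unop)).op) ≫
          χ.hom.app (op (mkObj Y (bot D) U.unop))
    rw [ht]
    erw [Category.id_comp]
    simp only [Category.assoc]
    refine congrArg (M.obj.map _ ≫ ·) ?_
    refine Eq.symm ?_
    rw [← Category.assoc]
    refine (congrArg (· ≫ _) hu).trans ?_
    rw [Category.assoc]
    refine congrArg (_ ≫ ·) ?_
    refine Eq.trans ?_ hχ
    rw [← Category.assoc, ← Functor.map_comp]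
    rfl
  obtain ⟨r, hr⟩ := (hb M).2 (𝟙 M)
  refine ⟨r, hr, (hb _).1 ?_⟩
  change (aPlus S).app M ≫ r ≫ _ = _ ≫ 𝟙 _
  rw [← Category.assoc, show (aPlus S).app M ≫ r = 𝟙 M from hr]
  exact (Category.id_comp _).trans (Category.comp_id _).symm

instance preservesFiniteLimits_extend :
    PreservesFiniteLimits (FibSite.extend FY JY AddCommGrpCat.{u} (bot D)) :=
  haveI : PreservesFiniteLimits ((eps FY).op.lan (H := AddCommGrpCat.{u})) :=
    lan_preservesFiniteLimits_of_flat AddCommGrpCat.{u} (eps FY)
  Functor.sheafPullbackConstruction.preservesFiniteLimits (eps FY) AddCommGrpCat.{u} _ _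

instance preservesFiniteLimits_sectPull : PreservesFiniteLimits (sectPull S) :=
  haveI : PreservesFiniteLimits ((sectFunctor S).op.lan (H := AddCommGrpCat.{u})) :=
    lan_preservesFiniteLimits_of_flat AddCommGrpCat.{u} (sectFunctor S)
  Functor.sheafPullbackConstruction.preservesFiniteLimits (sectFunctor S) AddCommGrpCat.{u} _ _

instance preservesFiniteLimits_pull : PreservesFiniteLimits (pull FY JY AddCommGrpCat.{u}) := by
  haveI : PreservesFiniteLimits (inclR Y) :=
    haveI := ((incl FY).sheafAdjunctionCocontinuous AddCommGrpCat.{u} (totPart FY JY) (totAug FY JY)).leftAdjoint_preservesColimits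
    inferInstance
  exact comp_preservesFiniteLimits _ _

include S in
/-- A split augmented family is of cohomological descent. -/
theorem isCohDescentTop : IsCohDescentTop Y := by
  letI := HasDerivedCategory.standard (BaseSh FY JY AddCommGrpCat.{u})
  letI := HasDerivedCategory.standard (DSh FY JY AddCommGrpCat.{u})
  refine ⟨eps_continuous Y, inferInstance, incl_continuous Y, incl_cocontinuous Y, fun P => inferInstance,
    preservesFiniteLimits_pull, fun K L => ?_⟩
  let ad := adj₀ Y
  haveI hiso : ∀ G, IsIso ((aPlus S).app (ext₀ Y G)) := fun G => isIso_aPlus S (cart_ext₀ Y G)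
  let R : PSh Y ⥤ Sheaf (JY (bot D)) AddCommGrpCat.{u} := decP S ⋙ rs Y (bot D)
  let e₀ : 𝟭 _ ≅ pull FY JY AddCommGrpCat.{u} ⋙ R :=
    (NatIso.ofComponents (fun G => asIso (ad.unit.app G) ≪≫ (rs Y (bot D)).mapIso (asIso ((aPlus S).app (ext₀ Y G))))
      (fun {G G'} φ => by
        have h1 := ad.unit.naturality φ
        have h2 := (aPlus S).naturality ((FibSite.extend FY JY AddCommGrpCat.{u} (bot D)).map φ)
        simp only [Iso.trans_hom, asIso_hom, Functor.mapIso_hom]
        rw [← Category.assoc]
        refine (congrArg (· ≫ _) h1).trans ?_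
        rw [Category.assoc, Category.assoc]
        refine congrArg (_ ≫ ·) ?_
        exact ((rs Y (bot D)).map_comp _ _).symm.trans ((congrArg (rs Y (bot D)).map h2).trans
          ((rs Y (bot D)).map_comp _ _))))
  let e := e₀.symm
  let b : R ⋙ pull FY JY AddCommGrpCat.{u} ⟶ decP S ⋙ inclR Y :=
    { app := fun N => (inclR Y).map (ad.counit.app ((decP S).obj N))
      naturality := fun N N' φ => ((inclR Y).map_comp _ _).symm.trans
        ((congrArg (inclR Y).map (ad.counit.naturality ((decP S).map φ))).trans ((inclR Y).map_comp _ _)) }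
  have hbiso : ∀ G, IsIso (b.app ((pull FY JY AddCommGrpCat.{u}).obj G)) := fun G => by
    haveI : IsIso (ad.counit.app (ext₀ Y G)) := by
      have h := ad.left_triangle_components G
      exact IsIso.of_isIso_fac_left h
    haveI : IsIso (ad.counit.app ((decP S).obj ((inclR Y).obj (ext₀ Y G)))) :=
      (NatTrans.isIso_app_iff_of_iso ad.counit (asIso ((aPlus S).app (ext₀ Y G)))).1
        (show IsIso (ad.counit.app (ext₀ Y G)) from inferInstance)
    change IsIso ((inclR Y).map (ad.counit.app ((decP S).obj ((inclR Y).obj (ext₀ Y G)))))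
    exact Functor.map_isIso (inclR Y) _
  have haiso : ∀ G, IsIso ((aPart S).app ((pull FY JY AddCommGrpCat.{u}).obj G)) := fun G => by
    change IsIso ((aPart S).app ((inclR Y).obj (ext₀ Y G)))
    rw [aPart_inclR]
    infer_instance
  haveI hT : PreservesFiniteLimits (inclR Y) := inferInstance
  haveI : PreservesFiniteColimits (inclR Y) :=
    haveI := ((incl FY).sheafAdjunctionCocontinuous AddCommGrpCat.{u} (totPart FY JY) (totAug FY JY)).leftAdjoint_preservesColimits
    inferInstance
  haveI : PreservesFiniteLimits (rs Y (bot D)) := inferInstance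
  haveI : PreservesFiniteColimits (rs Y (bot D)) :=
    haveI := ((ι FY (bot D)).sheafAdjunctionCocontinuous AddCommGrpCat.{u} (JY (bot D)) (totAug FY JY)).leftAdjoint_preservesColimits
    inferInstance
  haveI : PreservesFiniteColimits (shiftPush S) :=
    haveI := ((shiftFunctor S).sheafAdjunctionCocontinuous AddCommGrpCat.{u} (totAug (topAug S.Y') (topAugTop S.Y'))
      (totPart FY JY)).leftAdjoint_preservesColimits
    inferInstance
  haveI : PreservesFiniteColimits (sectPull S) :=
    haveI := (sectAdj S).leftAdjoint_preservesColimits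
    inferInstance
  haveI : PreservesFiniteLimits (decP S) := comp_preservesFiniteLimits _ _
  haveI : PreservesFiniteColimits (decP S) := comp_preservesFiniteColimits _ _
  haveI : PreservesFiniteLimits R := comp_preservesFiniteLimits _ _
  haveI : PreservesFiniteColimits R := comp_preservesFiniteColimits _ _
  haveI : PreservesFiniteLimits (decP S ⋙ inclR Y) := comp_preservesFiniteLimits _ _
  haveI : PreservesFiniteColimits (decP S ⋙ inclR Y) := comp_preservesFiniteColimits _ _
  haveI : R.Additive := Functor.additive_of_preserves_binary_products R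
  haveI : (decP S ⋙ inclR Y).Additive := Functor.additive_of_preserves_binary_products _
  exact bijective_mapDerivedCategory_of_zigzag (pull FY JY AddCommGrpCat.{u}) R (decP S ⋙ inclR Y) e (aPart S) b
    haiso hbiso K.obj L.obj

end Groth.Agent.FibSplit8
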