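import Groth.Agent.Lib.FibSplit8.Main

/-!
# The Čech nerve of a map with a section is split
-/

set_option autoImplicit false
set_option backward.isDefEq.respectTransparency false
set_option backward.isDefEq.respectTransparency.types false

universe u

open CategoryTheory CategoryTheory.Limits Opposite FibDesc

noncomputable section

namespace Groth.Agent.FibSplit8

/-- Adjoin a first point and shift the others. -/
def shiftHom {n m : SimplexCategory} (g : n ⟶ m) : SimplexCategory.mk (n.len + 1) ⟶ SimplexCategory.mk (m.len + 1) :=
  SimplexCategory.mkHom
    { toFun := Fin.cons 0 fun j => (g.toOrderHom j).succ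
      monotone' := fun a b h => by
        induction a using Fin.cases with
        | zero => simp
        | succ a =>
          induction b using Fin.cases with
          | zero => exact absurd h (by simp [Fin.le_def])
          | succ b =>
            simp only [Fin.cons_succ, Fin.succ_le_succ_iff] at h ⊢
            exact g.toOrderHom.monotone h }

/-- The first point. -/
def firstPt (m : SimplexCategory) : SimplexCategory.mk 0 ⟶ SimplexCategory.mk (m.len + 1) :=
  SimplexCategory.const _ _ 0

/-- The shift on the augmented simplex category. -/
def sigma : WithInitial SimplexCategory ⥤ SimplexCategory where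
  obj x := match x with
    | .star => SimplexCategory.mk 0
    | .of n => SimplexCategory.mk (n.len + 1)
  map {x y} f := match x, y, f with
    | .of _, .of _, g => shiftHom (WithInitial.down g)
    | .star, .of m, _ => firstPt m
    | .star, .star, _ => 𝟙 _
    | .of _, .star, g => (g : PEmpty).elim
  map_id x := match x with
    | .star => rfl
    | .of n => by
      apply SimplexCategory.Hom.ext
      ext i : 2
      change Fin.cons (α := fun _ => Fin (n.len + 1 + 1)) 0 (fun j => (Fin.succ j)) i = i
      induction i using Fin.cases <;> simp
  map_comp {x y z} f g := match x, y, z, f, g with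
    | .star, .star, _, _, _ => by
      simp only [Category.id_comp]
      congr 1
    | .star, .of _, .of _, _, g => by
      apply SimplexCategory.Hom.ext
      ext i : 2
      rfl
    | .of _, .of _, .of _, f, g => by
      apply SimplexCategory.Hom.ext
      ext i : 2
      induction i using Fin.cases <;> rfl
    | .of _, .star, _, f, _ => (f : PEmpty).elim
    | .star, .of _, .star, _, g => (g : PEmpty).elim
    | .of _, .of _, .star, _, g => (g : PEmpty).elim

/-- The omission of the first point. -/
def delta : ∀ x : WithInitial SimplexCategory, x ⟶ WithInitial.incl.obj (sigma.obj x)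
  | .star => WithInitial.starInitial.to _
  | .of n => WithInitial.incl.map (SimplexCategory.δ (n := n.len) 0)

variable {X S : TopCat.{u}} (f : X ⟶ S) (s : S ⟶ X) (h : s ≫ f = 𝟙 S)

/-- The fibre powers. -/
abbrev W (n : SimplexCategory) : TopCat.{u} := widePullback.{0} S (fun _ : Fin (n.len + 1) => X) fun _ => f

/-- The projections. -/
abbrev wπ (n : SimplexCategory) (i : Fin (n.len + 1)) : W f n ⟶ X :=
  WidePullback.π (fun _ : Fin (n.len + 1) => f) i

/-- The augmentation. -/
abbrev wb (n : SimplexCategory) : W f n ⟶ S := WidePullback.base (fun _ : Fin (n.len + 1) => f)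

/-- The simplicial maps. -/
abbrev wM {n m : SimplexCategory} (g : n ⟶ m) : W f m ⟶ W f n := (cechAug f).map (WithInitial.incl.map g).op

theorem wM_π {n m : SimplexCategory} (g : n ⟶ m) (i : Fin (n.len + 1)) :
    wM f g ≫ wπ f n i = wπ f m (g.toOrderHom i) :=
  WidePullback.lift_π _ _ _ _ _

theorem wM_base {n m : SimplexCategory} (g : n ⟶ m) : wM f g ≫ wb f n = wb f m :=
  WidePullback.lift_base _ _ _ _

theorem w_ext {T : TopCat.{u}} {n : SimplexCategory} {a b : T ⟶ W f n}
    (h₁ : ∀ j, a ≫ wπ f n j = b ≫ wπ f n j) (h₂ : a ≫ wb f n = b ≫ wb f n) : a = b :=
  WidePullback.hom_ext _ _ _ h₁ h₂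

/-- The section to the vertices. -/
def sect₀ : S ⟶ W f (SimplexCategory.mk 0) := WidePullback.lift (𝟙 S) (fun _ => s) (fun _ => h)

theorem sect₀_π (j : Fin (0 + 1)) : sect₀ f s h ≫ wπ f (SimplexCategory.mk 0) j = s :=
  WidePullback.lift_π _ _ _ _ _

theorem sect₀_base : sect₀ f s h ≫ wb f (SimplexCategory.mk 0) = 𝟙 S := WidePullback.lift_base _ _ _ _

/-- The extra degeneracy. -/
def sectN (n : SimplexCategory) : W f n ⟶ W f (SimplexCategory.mk (n.len + 1)) :=
  WidePullback.lift (wb f n) (Fin.cons (α := fun _ => W f n ⟶ X) (wb f n ≫ s) (wπ f n)) (fun j => by
    change Fin (n.len + 1 + 1) at j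
    induction j using Fin.cases with
    | zero => rw [Fin.cons_zero, Category.assoc, h, Category.comp_id]
    | succ j => rw [Fin.cons_succ]; exact WidePullback.π_arrow _ _)

theorem sectN_zero (n : SimplexCategory) :
    sectN f s h n ≫ wπ f (SimplexCategory.mk (n.len + 1)) (0 : Fin (n.len + 1 + 1)) = wb f n ≫ s :=
  (WidePullback.lift_π _ _ _ _ _).trans (Fin.cons_zero _ _)

theorem sectN_succ (n : SimplexCategory) (j : Fin (n.len + 1)) :
    sectN f s h n ≫ wπ f (SimplexCategory.mk (n.len + 1)) (Fin.succ j) = wπ f n j :=
  (WidePullback.lift_π _ _ _ _ _).trans (Fin.cons_succ (α := fun _ => W f n ⟶ X) _ _ _)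

theorem sectN_base (n : SimplexCategory) :
    sectN f s h n ≫ wb f (SimplexCategory.mk (n.len + 1)) = wb f n := WidePullback.lift_base _ _ _ _

/-- All components of the extra degeneracy. -/
def sect : ∀ x : (WithInitial SimplexCategory)ᵒᵖ,
    (cechAug f).obj x ⟶ (cechAug f).obj ((toAug SimplexCategory).obj (sigma.op.obj x))
  | op .star => sect₀ f s h
  | op (.of n) => sectN f s h n

/-- The splitting of the Čech nerve of a map with a section. -/
def cechSplitting : Splitting (cechAug f) where
  σ := sigma.op
  d :=
    { app := fun x => (delta x.unop).op
      naturality := fun x y g => by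
        apply Quiver.Hom.unop_inj
        change delta y.unop ≫ WithInitial.incl.map (sigma.map g.unop) = g.unop ≫ delta x.unop
        obtain ⟨x⟩ := x; obtain ⟨y⟩ := y
        cases y with
        | star => exact WithInitial.starInitial.hom_ext _ _
        | of n =>
          cases x with
          | star => exact (g.unop : PEmpty).elim
          | of m =>
            change WithInitial.incl.map (SimplexCategory.δ 0) ≫ WithInitial.incl.map (shiftHom (WithInitial.down g.unop)) =
              WithInitial.incl.map (WithInitial.down g.unop) ≫ WithInitial.incl.map (SimplexCategory.δ 0)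
            rw [← Functor.map_comp, ← Functor.map_comp]
            congr 1 }
  d₀ i := (SimplexCategory.δ (n := i.unop.len) 0).op
  hd₀ i := rfl
  s :=
    { app := sect f s h
      naturality := fun x y g => by
        obtain ⟨x⟩ := x; obtain ⟨y⟩ := y; obtain ⟨g⟩ := g
        cases y with
        | star =>
          cases x with
          | star =>
            change (cechAug f).map (𝟙 _) ≫ sect f s h _ = _ ≫ (cechAug f).map (𝟙 _)
            rw [CategoryTheory.Functor.map_id, CategoryTheory.Functor.map_id]
            exact (Category.id_comp _).trans (Category.comp_id _).symm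
          | of m =>
            change wb f m ≫ sect₀ f s h = sectN f s h m ≫ wM f (firstPt m)
            apply w_ext
            · intro j
              rw [Category.assoc, sect₀_π, Category.assoc, wM_π]
              exact (sectN_zero f s h m).symm
            · rw [Category.assoc, sect₀_base, Category.assoc, wM_base, sectN_base, Category.comp_id]
        | of n =>
          cases x with
          | star => exact (g : PEmpty).elim
          | of m =>
            change wM f (WithInitial.down g) ≫ sectN f s h n = sectN f s h m ≫ wM f (shiftHom (WithInitial.down g))
            apply w_ext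
            · intro (j : Fin (n.len + 1 + 1))
              rw [Category.assoc, Category.assoc, wM_π]
              induction j using Fin.cases with
              | zero =>
                rw [sectN_zero, ← Category.assoc, wM_base]
                exact (sectN_zero f s h m).symm
              | succ j =>
                rw [sectN_succ, wM_π]
                exact (sectN_succ f s h m _).symm
            · rw [Category.assoc, Category.assoc, wM_base, sectN_base, sectN_base, wM_base] }
  hs i := by
    obtain ⟨i⟩ := i
    cases i with
    | star => exact sect₀_base f s h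
    | of n =>
      change sectN f s h n ≫ wM f (SimplexCategory.δ 0) = 𝟙 (W f n)
      apply w_ext
      · intro j
        rw [Category.assoc, wM_π, Category.id_comp]
        exact sectN_succ f s h n j
      · rw [Category.assoc, wM_base, sectN_base, Category.id_comp]

/-- A map with a section is of cohomological descent. -/
theorem isCohDescentMap_of_section {X S : TopCat.{u}} (f : X ⟶ S) (s : S ⟶ X) (h : s ≫ f = 𝟙 S) :
    IsCohDescentMap f :=
  isCohDescentTop (cechSplitting f s h)

/-- A map with a section is universally of cohomological descent. -/
theorem isUnivCohDescentMap_of_section {X S : TopCat.{u}} (f : X ⟶ S) (s : S ⟶ X) (h : s ≫ f = 𝟙 S) :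
    IsUnivCohDescentMap f := fun S' g =>
  isCohDescentMap_of_section _ (pullback.lift (g ≫ s) (𝟙 S') (by rw [Category.assoc, h, Category.comp_id, Category.id_comp]))
    (pullback.lift_snd _ _ _)

end Groth.Agent.FibSplit8
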