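import Groth.Prelude.Def_FibDesc
import Groth.Agent.Lib.FC16.FibTotal
import Mathlib.CategoryTheory.Functor.Flat

/-!
# Augmented families of spaces: continuity, flatness, values of the fibre coextension at the base
-/

set_option autoImplicit false
set_option backward.isDefEq.respectTransparency false
set_option backward.isDefEq.respectTransparency.types false

universe u

open CategoryTheory CategoryTheory.Limits Opposite TopologicalSpace Pseudofunctor.CoGrothendieck FibDesc

noncomputable section

namespace Groth.Agent.FibSplit8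

variable {D : Type} [Category.{0} D]

/-- `bot` is final in the base. -/
def botTerminal : IsTerminal (bot D) := terminalOpOfInitial WithInitial.starInitial

variable (Y : (WithInitial D)ᵒᵖ ⥤ TopCat.{u})

local notation "FY" => topAug Y
local notation "JY" => topAugTop Y

/-- The structure map to the base space. -/
abbrev epsMap (i : (WithInitial D)ᵒᵖ) : Y.obj i ⟶ Y.obj (bot D) := Y.map (botTerminal.from i)

/-- An object of the total category. -/
abbrev mkObj (i : (WithInitial D)ᵒᵖ) (U : Opens (Y.obj i)) : ∫ᶜ (topAug Y) := (ι (topAug Y) i).obj U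

/-- The open subset underlying an object of the total category. -/
abbrev opn (a : ∫ᶜ (topAug Y)) : Opens (Y.obj a.base) := a.fiber

theorem hom_ext {a b : ∫ᶜ (topAug Y)} {φ ψ : a ⟶ b} (h : φ.base = ψ.base) : φ = ψ :=
  Pseudofunctor.CoGrothendieck.Hom.ext φ ψ h
    (@Subsingleton.elim (@Quiver.Hom (Opens (Y.obj a.base)) _ _ _) _ _ _)

/-- A morphism of the total category. -/
def homMk {a b : ∫ᶜ (topAug Y)} (f : a.base ⟶ b.base) (h : opn Y a ≤ (Opens.map (Y.map f)).obj (opn Y b)) :
    a ⟶ b :=
  ⟨f, homOfLE (X := Opens (Y.obj a.base)) h⟩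

@[simp] theorem homMk_base {a b : ∫ᶜ (topAug Y)} (f : a.base ⟶ b.base)
    (h : opn Y a ≤ (Opens.map (Y.map f)).obj (opn Y b)) : (homMk Y f h).base = f := rfl

theorem hom_le {a b : ∫ᶜ (topAug Y)} (φ : a ⟶ b) :
    opn Y a ≤ (Opens.map (Y.map φ.base)).obj (opn Y b) :=
  leOfHom (X := Opens (Y.obj a.base)) φ.fiber

theorem isPreFibSite : FibSite.IsPreFibSite FY JY := fun R S f =>
  inferInstanceAs ((Opens.map (Y.map f)).IsContinuous _ _)

theorem isPreFibSite_part : FibSite.IsPreFibSite (part FY) (partTop FY JY) := fun _ _ f =>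
  isPreFibSite Y ((toAug D).map f)

instance eps_continuous : (eps FY).IsContinuous (JY (bot D)) (totAug FY JY) :=
  FC16.FibTotal.ι_isContinuous (isPreFibSite Y) (bot D)

instance incl_continuous : (incl FY).IsContinuous (totPart FY JY) (totAug FY JY) := by
  refine (FC16.FibTotal.isContinuous_iff (isPreFibSite_part Y) _ _).2 fun i => ?_
  haveI : (ι FY ((toAug D).obj i)).IsContinuous (partTop FY JY i) (totAug FY JY) :=
    FC16.FibTotal.ι_isContinuous (isPreFibSite Y) _
  exact Functor.isContinuous_of_iso (F₁ := ι FY ((toAug D).obj i))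
    (NatIso.ofComponents (fun U => Iso.refl _) fun f => hom_ext Y (by simp [incl, FibSite.baseChangeFunctor])) _ _

instance incl_cocontinuous : (incl FY).IsCocontinuous (totPart FY JY) (totAug FY JY) where
  cover_lift {X S} hS := by
    have h := (FC16.FibTotal.mem_total (isPreFibSite Y) S).1 hS
    rw [FC16.FibTotal.mem_total (isPreFibSite_part Y)]
    refine GrothendieckTopology.superset_covering _ ?_ h
    intro V g hg
    change S.arrows ((incl FY).map ((ι (part FY) X.base).map g))
    have : (incl FY).map ((ι (part FY) X.base).map g) = (ι FY ((toAug D).obj X.base)).map g :=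
      hom_ext Y ((toAug D).map_id X.base)
    rw [this]
    exact hg

instance eps_flat : RepresentablyFlat (eps FY) where
  cofiltered X := by
    have homL : ∀ {a b : StructuredArrow X (eps FY)} (h : @LE.le (Opens (Y.obj (bot D))) _ a.right b.right),
        Nonempty (a ⟶ b) := fun {a b} h =>
      ⟨StructuredArrow.homMk (homOfLE (X := Opens (Y.obj (bot D))) h) (hom_ext Y (botTerminal.hom_ext _ _))⟩
    haveI : Nonempty (StructuredArrow X (eps FY)) :=
      ⟨StructuredArrow.mk (Y := (⊤ : Opens (Y.obj (bot D))))
        (homMk Y (a := X) (b := mkObj Y (bot D) ⊤) (botTerminal.from _) fun _ _ => trivial)⟩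
    haveI : IsCofilteredOrEmpty (StructuredArrow X (eps FY)) := by
      refine ⟨fun a b => ?_, fun a b f g => ⟨a, 𝟙 _, ?_⟩⟩
      · have ha := hom_le Y a.hom
        have hb := hom_le Y b.hom
        let w : StructuredArrow X (eps FY) :=
          StructuredArrow.mk (Y := ((a.right : Opens (Y.obj (bot D))) ⊓ b.right : Opens (Y.obj (bot D))))
            (homMk Y (a := X) (b := mkObj Y (bot D) _) (botTerminal.from _) fun x hx =>
              ⟨by have := ha hx; rw [botTerminal.hom_ext a.hom.base (botTerminal.from _)] at this; exact this,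
               by have := hb hx; rw [botTerminal.hom_ext b.hom.base (botTerminal.from _)] at this; exact this⟩)
        exact ⟨w, (homL (a := w) inf_le_left).some, (homL (a := w) inf_le_right).some, trivial⟩
      · exact StructuredArrow.hom_ext _ _ (@Subsingleton.elim (@Quiver.Hom (Opens (Y.obj (bot D))) _ _ _) _ _ _)
    exact {}

variable (i : (WithInitial D)ᵒᵖ)

instance ι_continuous : (ι FY i).IsContinuous (JY i) (totAug FY JY) :=
  FC16.FibTotal.ι_isContinuous (isPreFibSite Y) i

instance ι_cocontinuous : (ι FY i).IsCocontinuous (JY i) (totAug FY JY) :=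
  FC16.FibTotal.ι_isCocontinuous (isPreFibSite Y) i

/-- Sheaves of abelian groups on the total site of the augmented family. -/
abbrev TSh := Sheaf (totAug (topAug Y) (topAugTop Y)) AddCommGrpCat.{u}

/-- The cartesian arrow `(i, ε⁻¹U) ⟶ (bot, U)`. -/
def toBot (U : Opens (Y.obj (bot D))) : mkObj Y i ((Opens.map (epsMap Y i)).obj U) ⟶ mkObj Y (bot D) U :=
  homMk Y (a := mkObj Y i ((Opens.map (epsMap Y i)).obj U)) (b := mkObj Y (bot D) U) (botTerminal.from i) le_rfl

instance map_continuous : (Opens.map (epsMap Y i)).IsContinuous (JY (bot D)) (JY i) :=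
  isPreFibSite Y (botTerminal.from i)

/-- The restriction map from the base fibre to the fibre over `i`. -/
def rho (M : TSh Y) : (FibSite.restr FY JY _ (bot D)).obj M ⟶
    ((Opens.map (epsMap Y i)).sheafPushforwardContinuous AddCommGrpCat.{u} (JY (bot D)) (JY i)).obj
      ((FibSite.restr FY JY _ i).obj M) where
  hom :=
    { app := fun U => M.obj.map (toBot Y i U.unop).op
      naturality := fun U V f => by
        change M.obj.map _ ≫ M.obj.map _ = M.obj.map _ ≫ M.obj.map _
        rw [← M.obj.map_comp, ← M.obj.map_comp]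
        exact congrArg M.obj.map (Quiver.Hom.unop_inj (hom_ext Y (botTerminal.hom_ext _ _))) }

theorem rho_naturality {M N : TSh Y} (φ : M ⟶ N) :
    (FibSite.restr FY JY _ (bot D)).map φ ≫ rho Y i N =
      rho Y i M ≫ ((Opens.map (epsMap Y i)).sheafPushforwardContinuous AddCommGrpCat.{u} (JY (bot D)) (JY i)).map
        ((FibSite.restr FY JY _ i).map φ) := by
  apply Sheaf.hom_ext
  ext U : 2
  exact (φ.hom.naturality (toBot Y i U.unop).op).symm

instance hasRan (P : (Opens (Y.obj i))ᵒᵖ ⥤ AddCommGrpCat.{u}) : (ι FY i).op.HasPointwiseRightKanExtension P :=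
  inferInstance

/-- The initial object of the category defining the value at `(bot, U)` of a Kan extension along the fibre. -/
def initialArrow (U : Opens (Y.obj (bot D))) :
    StructuredArrow (op (mkObj Y (bot D) U)) (ι FY i).op :=
  StructuredArrow.mk (Y := op ((Opens.map (epsMap Y i)).obj U)) (toBot Y i U).op

def initialArrowIsInitial (U : Opens (Y.obj (bot D))) : IsInitial (initialArrow Y i U) := by
  refine IsInitial.ofUniqueHom (fun a => StructuredArrow.homMk (homOfLE ?_).op
    (Quiver.Hom.unop_inj (hom_ext Y (botTerminal.hom_ext _ _)))) (fun a m => ?_)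
  · have h := hom_le Y a.hom.unop
    rw [botTerminal.hom_ext a.hom.unop.base (botTerminal.from i)] at h
    exact h
  · exact StructuredArrow.hom_ext _ _
      (Quiver.Hom.unop_inj (@Subsingleton.elim (@Quiver.Hom (Opens (Y.obj i)) _ _ _) _ _ _))

/-- The fibre coextension evaluated at the base is the direct image. -/
def gamma (A : Sheaf (JY i) AddCommGrpCat.{u}) :
    (FibSite.restr FY JY _ (bot D)).obj ((FibSite.coextend FY JY AddCommGrpCat.{u} i).obj A) ⟶
      ((Opens.map (epsMap Y i)).sheafPushforwardContinuous AddCommGrpCat.{u} (JY (bot D)) (JY i)).obj A :=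
  rho Y i _ ≫ ((Opens.map (epsMap Y i)).sheafPushforwardContinuous AddCommGrpCat.{u} (JY (bot D)) (JY i)).map
    (((ι FY i).sheafAdjunctionCocontinuous AddCommGrpCat.{u} (JY i) (totAug FY JY)).counit.app A)

instance isIso_gamma (A : Sheaf (JY i) AddCommGrpCat.{u}) : IsIso (gamma Y i A) := by
  refine @isIso_of_reflects_iso _ _ _ _ _ _ (gamma Y i A) (sheafToPresheaf _ _) ?_ _
  refine @NatIso.isIso_of_isIso_app _ _ _ _ _ _ _ fun U => ?_
  have h := (Functor.isPointwiseRightKanExtensionRanCounit (ι FY i).op A.obj) (op (mkObj Y (bot D) U.unop))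
  let h2 := IsLimit.conePointUniqueUpToIso h (limitOfDiagramInitial (initialArrowIsInitial Y i U.unop) _)
  have key : ((sheafToPresheaf _ _).map (gamma Y i A)).app U =
      (h2.hom : _ ⟶ A.obj.obj (op ((Opens.map (epsMap Y i)).obj U.unop))) := by
    have e := IsLimit.conePointUniqueUpToIso_hom_comp h
      (limitOfDiagramInitial (initialArrowIsInitial Y i U.unop) _) (initialArrow Y i U.unop)
    have hc : (((ι FY i).sheafAdjunctionCocontinuous AddCommGrpCat.{u} (JY i) (totAug FY JY)).counit.app A).hom =
        (ι FY i).op.ranCounit.app A.obj := by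
      rw [Functor.sheafAdjunctionCocontinuous_counit_app_hom, Functor.ranAdjunction_counit]
    change ((FibSite.coextend FY JY AddCommGrpCat.{u} i).obj A).obj.map (toBot Y i U.unop).op ≫
      (((ι FY i).sheafAdjunctionCocontinuous AddCommGrpCat.{u} (JY i) (totAug FY JY)).counit.app A).hom.app
        (op ((Opens.map (epsMap Y i)).obj U.unop)) = _
    rw [hc]
    simp [coneOfDiagramInitial] at e
    exact e.symm.trans ((congrArg (_ ≫ ·) (A.obj.map_id _)).trans (Category.comp_id _))
  rw [key]
  infer_instance

/-- Maps into a direct image correspond to maps out of the fibre, for a cartesian sheaf. -/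
def toPush (M : TSh Y) {A : Sheaf (JY i) AddCommGrpCat.{u}} (φ : (FibSite.restr FY JY _ i).obj M ⟶ A) :
    (FibSite.restr FY JY _ (bot D)).obj M ⟶
      ((Opens.map (epsMap Y i)).sheafPushforwardContinuous AddCommGrpCat.{u} (JY (bot D)) (JY i)).obj A :=
  rho Y i M ≫ ((Opens.map (epsMap Y i)).sheafPushforwardContinuous AddCommGrpCat.{u} (JY (bot D)) (JY i)).map φ

end Groth.Agent.FibSplit8
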