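import Groth.Agent.Lib.FibSplit8.Basic

/-!
# Sheaves extended from the base are cartesian
-/

set_option autoImplicit false
set_option backward.isDefEq.respectTransparency false
set_option backward.isDefEq.respectTransparency.types false

universe u

open CategoryTheory CategoryTheory.Limits Opposite TopologicalSpace Pseudofunctor.CoGrothendieck FibDesc

noncomputable section

namespace Groth.Agent.FibSplit8

variable {D : Type} [Category.{0} D] (Y : (WithInitial D)ᵒᵖ ⥤ TopCat.{u})

local notation "FY" => topAug Y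
local notation "JY" => topAugTop Y

/-- Restriction to the fibre over `i`. -/
abbrev rs (i : (WithInitial D)ᵒᵖ) : TSh Y ⥤ Sheaf (JY i) AddCommGrpCat.{u} :=
  FibSite.restr (topAug Y) (topAugTop Y) AddCommGrpCat.{u} i

/-- The direct image of sheaves to the base space. -/
abbrev pushE (i : (WithInitial D)ᵒᵖ) :
    Sheaf (JY i) AddCommGrpCat.{u} ⥤ Sheaf (JY (bot D)) AddCommGrpCat.{u} :=
  (Opens.map (epsMap Y i)).sheafPushforwardContinuous AddCommGrpCat.{u} (JY (bot D)) (JY i)

/-- Every map from the fibre over `i` comes from a unique map from the base fibre. -/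
def Cart (M : TSh Y) : Prop :=
  ∀ (i : (WithInitial D)ᵒᵖ) (A : Sheaf (JY i) AddCommGrpCat.{u}),
    Function.Bijective (toPush Y i M (A := A))

/-- The extension of a sheaf from the base. -/
abbrev ext₀ (G : Sheaf (JY (bot D)) AddCommGrpCat.{u}) : TSh Y :=
  (FibSite.extend FY JY AddCommGrpCat.{u} (bot D)).obj G

/-- The adjunction between extension from the base and restriction to it. -/
abbrev adj₀ : FibSite.extend FY JY AddCommGrpCat.{u} (bot D) ⊣ rs Y (bot D) :=
  (eps FY).sheafAdjunctionContinuous AddCommGrpCat.{u} (JY (bot D)) (totAug FY JY)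

theorem comp_toPush_bijective (i : (WithInitial D)ᵒᵖ) (G : Sheaf (JY (bot D)) AddCommGrpCat.{u})
    (A : Sheaf (JY i) AddCommGrpCat.{u}) :
    Function.Bijective fun φ : (rs Y i).obj (ext₀ Y G) ⟶ A => (adj₀ Y).unit.app G ≫ toPush Y i (ext₀ Y G) φ := by
  let ad := (ι FY i).sheafAdjunctionCocontinuous AddCommGrpCat.{u} (JY i) (totAug FY JY)
  let e := (ad.homEquiv (ext₀ Y G) A).trans (((adj₀ Y).homEquiv G _).trans
    ((asIso (gamma Y i A)).homToEquiv (Z := G)))
  refine (congrArg Function.Bijective (funext fun φ => ?_)).mp e.bijective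
  simp only [e, Equiv.trans_apply, Iso.homToEquiv_apply, asIso_hom]
  rw [Adjunction.homEquiv_unit (adj₀ Y), Category.assoc]
  congr 1
  change (rs Y (bot D)).map _ ≫ (rho Y i _ ≫ (pushE Y i).map (ad.counit.app A)) = rho Y i _ ≫ (pushE Y i).map φ
  rw [← Category.assoc, rho_naturality, Category.assoc, ← Functor.map_comp]
  congr 2
  exact (Adjunction.homEquiv_symm_apply ad _ _ _).symm.trans (Equiv.symm_apply_apply _ _)

theorem epsMap_bot : epsMap Y (bot D) = 𝟙 _ := by
  rw [epsMap, botTerminal.hom_ext (botTerminal.from (bot D)) (𝟙 _), Y.map_id]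

theorem map_epsMap_bot (U : Opens (Y.obj (bot D))) : (Opens.map (epsMap Y (bot D))).obj U = U := by
  rw [epsMap_bot]; rfl

/-- Direct image along the identity. -/
def kappa : pushE Y (bot D) ≅ 𝟭 _ :=
  Functor.sheafPushforwardContinuousId' (eqToIso (by rw [epsMap_bot]; exact Opens.map_id_eq _)) _ _

theorem rho_kappa (M : TSh Y) : rho Y (bot D) M ≫ (kappa Y).hom.app ((rs Y (bot D)).obj M) = 𝟙 _ := by
  apply Sheaf.hom_ext
  ext U : 2
  change M.obj.map (toBot Y (bot D) U.unop).op ≫ ((kappa Y).hom.app ((rs Y (bot D)).obj M)).hom.app U = 𝟙 _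
  simp only [kappa, Functor.sheafPushforwardContinuousId', Functor.sheafPushforwardContinuousIso, Iso.trans_hom, Iso.symm_hom, NatIso.ofComponents_hom_app]
  dsimp [Functor.sheafPushforwardContinuousId]
  simp only [Category.comp_id]
  exact (M.obj.map_comp _ _).symm.trans ((congrArg M.obj.map
    (Quiver.Hom.unop_inj (hom_ext Y (botTerminal.hom_ext _ _)))).trans (M.obj.map_id _))

instance isIso_unit (G : Sheaf (JY (bot D)) AddCommGrpCat.{u}) : IsIso ((adj₀ Y).unit.app G) := by
  have hb : ∀ A, Function.Bijective fun φ : (rs Y (bot D)).obj (ext₀ Y G) ⟶ A => (adj₀ Y).unit.app G ≫ φ := by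
    intro A
    refine (congrArg Function.Bijective (funext fun φ => ?_)).mp
      ((((kappa Y).app A).homToEquiv (Z := G)).bijective.comp (comp_toPush_bijective Y (bot D) G A))
    simp only [Function.comp_apply, Iso.homToEquiv_apply, Iso.app_hom, toPush, Category.assoc]
    congr 1
    rw [(kappa Y).hom.naturality φ, ← Category.assoc, rho_kappa]
    exact Category.id_comp _
  obtain ⟨r, hr⟩ := (hb _).2 (𝟙 G)
  refine ⟨r, hr, (hb _).1 ?_⟩
  change (adj₀ Y).unit.app G ≫ r ≫ _ = _ ≫ 𝟙 _
  rw [← Category.assoc, show (adj₀ Y).unit.app G ≫ r = 𝟙 G from hr]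
  exact (Category.id_comp _).trans (Category.comp_id _).symm

theorem cart_ext₀ (G : Sheaf (JY (bot D)) AddCommGrpCat.{u}) : Cart Y (ext₀ Y G) := fun i A =>
  (Function.Bijective.of_comp_iff' (f := fun χ => (adj₀ Y).unit.app G ≫ χ)
    (((asIso ((adj₀ Y).unit.app G)).homFromEquiv (Z := (pushE Y i).obj A)).symm.bijective) _).1
    (comp_toPush_bijective Y i G A)

section Trans

variable {i j : (WithInitial D)ᵒᵖ} (f : j ⟶ i)

instance map_continuous' : (Opens.map (Y.map f)).IsContinuous (JY i) (JY j) := isPreFibSite Y f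

/-- The cartesian arrow over `f`. -/
def cartArr (U : Opens (Y.obj i)) : mkObj Y j ((Opens.map (Y.map f)).obj U) ⟶ mkObj Y i U :=
  homMk Y (a := mkObj Y j ((Opens.map (Y.map f)).obj U)) (b := mkObj Y i U) f le_rfl

/-- The direct image along a transition map. -/
abbrev pushF : Sheaf (JY j) AddCommGrpCat.{u} ⥤ Sheaf (JY i) AddCommGrpCat.{u} :=
  (Opens.map (Y.map f)).sheafPushforwardContinuous AddCommGrpCat.{u} (JY i) (JY j)

/-- The transition map of a sheaf on the total site. -/
def rhoF (M : TSh Y) : (rs Y i).obj M ⟶ (pushF Y f).obj ((rs Y j).obj M) where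
  hom :=
    { app := fun U => M.obj.map (cartArr Y f U.unop).op
      naturality := fun U V g => by
        change M.obj.map _ ≫ M.obj.map _ = M.obj.map _ ≫ M.obj.map _
        rw [← M.obj.map_comp, ← M.obj.map_comp]
        exact congrArg M.obj.map (Quiver.Hom.unop_inj (hom_ext Y ((Category.comp_id f).trans (Category.id_comp f).symm))) }

theorem map_epsMap : Y.map f ≫ epsMap Y i = epsMap Y j := by
  rw [← Y.map_comp, botTerminal.hom_ext (f ≫ botTerminal.from i) (botTerminal.from j)]

/-- Composition of direct images. -/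
def pushComp : pushF Y f ⋙ pushE Y i ≅ pushE Y j :=
  Functor.sheafPushforwardContinuousComp'
    (eqToIso (by rw [← map_epsMap Y f, Opens.map_comp_eq])) _ _ _ _

theorem toPush_comp (M : TSh Y) {A : Sheaf (JY j) AddCommGrpCat.{u}} (φ : (rs Y j).obj M ⟶ A) :
    toPush Y i M (rhoF Y f M ≫ (pushF Y f).map φ) ≫ (pushComp Y f).hom.app A = toPush Y j M φ := by
  have h0 : rho Y i M ≫ (pushE Y i).map (rhoF Y f M) ≫ (pushComp Y f).hom.app ((rs Y j).obj M) = rho Y j M := by
    apply Sheaf.hom_ext
    ext U : 2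
    change M.obj.map (toBot Y i U.unop).op ≫ M.obj.map (cartArr Y f _).op ≫
      ((pushComp Y f).hom.app ((rs Y j).obj M)).hom.app U = M.obj.map (toBot Y j U.unop).op
    simp only [pushComp, Functor.sheafPushforwardContinuousComp', Functor.sheafPushforwardContinuousIso, Iso.trans_hom, Iso.symm_hom, NatIso.ofComponents_hom_app]
    dsimp [Functor.sheafPushforwardContinuousComp]
    simp only [Category.comp_id, Category.id_comp]
    exact (congrArg (M.obj.map _ ≫ ·) (M.obj.map_comp _ _).symm).trans ((M.obj.map_comp _ _).symm.trans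
      (congrArg M.obj.map (Quiver.Hom.unop_inj (hom_ext Y (botTerminal.hom_ext _ _)))))
  simp only [toPush]
  rw [Category.assoc, Functor.map_comp, Category.assoc]
  rw [show (pushE Y i).map ((pushF Y f).map φ) ≫ (pushComp Y f).hom.app A =
    (pushComp Y f).hom.app ((rs Y j).obj M) ≫ (pushE Y j).map φ from (pushComp Y f).hom.naturality φ]
  rw [← h0]
  simp only [Category.assoc]

theorem bijective_trans {M : TSh Y} (hM : Cart Y M) (A : Sheaf (JY j) AddCommGrpCat.{u}) :
    Function.Bijective fun φ : (rs Y j).obj M ⟶ A => rhoF Y f M ≫ (pushF Y f).map φ := by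
  refine (Function.Bijective.of_comp_iff'
    ((((pushComp Y f).app A).homToEquiv (Z := (rs Y (bot D)).obj M)).bijective.comp (hM i _)) _).1 ?_
  refine (congrArg Function.Bijective (funext fun φ => ?_)).mp (hM j A)
  exact (toPush_comp Y f M φ).symm

end Trans

theorem eq_map_cartArr {X Z : ∫ᶜ FY} (g : X ⟶ Z) :
    g = (ι FY X.base).map (X := X.fiber) (Y := (Opens.map (Y.map g.base)).obj (opn Y Z))
        (homOfLE (X := Opens (Y.obj X.base)) (hom_le Y g)) ≫ cartArr Y g.base (opn Y Z) :=
  hom_ext Y (by simp [cartArr])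

theorem bijective_restr_bot {M : TSh Y} (hM : Cart Y M) (T : TSh Y) :
    Function.Bijective fun φ : M ⟶ T => (rs Y (bot D)).map φ := by
  refine ⟨fun φ φ' h => ?_, fun φ₀ => ?_⟩
  · have hi : ∀ i, (rs Y i).map φ = (rs Y i).map φ' := fun i => (hM i _).1 (by
      simp only [toPush]
      rw [← rho_naturality, ← rho_naturality, show (rs Y (bot D)).map φ = (rs Y (bot D)).map φ' from h])
    apply Sheaf.hom_ext
    ext X : 2
    exact congrArg (fun η => η.hom.app (op X.unop.fiber)) (hi X.unop.base)
  · choose ψ hψ using fun i => (hM i ((rs Y i).obj T)).2 (φ₀ ≫ rho Y i T)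
    have hnat : ∀ {i j : (WithInitial D)ᵒᵖ} (f : j ⟶ i),
        rhoF Y f M ≫ (pushF Y f).map (ψ j) = ψ i ≫ rhoF Y f T := fun {i j} f => by
      refine (hM i _).1 ?_
      rw [← cancel_mono ((pushComp Y f).hom.app _), toPush_comp]
      have e := toPush_comp Y f T (𝟙 ((rs Y j).obj T))
      simp only [toPush, Functor.map_comp, Category.assoc, CategoryTheory.Functor.map_id, Category.comp_id] at e hψ ⊢
      rw [← Category.assoc (rho Y i M), hψ i, Category.assoc, hψ j]
      refine congrArg (φ₀ ≫ ·) ?_
      rw [← e]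
    refine ⟨⟨{ app := fun X => (ψ X.unop.base).hom.app (op X.unop.fiber), naturality := ?_ }⟩, ?_⟩
    · intro X Z g
      let g' : Z.unop ⟶ X.unop := g.unop
      have hg := eq_map_cartArr Y g'
      have h1 : (rhoF Y g'.base M ≫ (pushF Y g'.base).map (ψ Z.unop.base)).hom.app (op X.unop.fiber) =
          (ψ X.unop.base ≫ rhoF Y g'.base T).hom.app (op X.unop.fiber) := by rw [hnat]
      have h2 := (ψ Z.unop.base).hom.naturality
        (homOfLE (X := Opens (Y.obj Z.unop.base)) (hom_le Y g')).op
      change M.obj.map g'.op ≫ (ψ Z.unop.base).hom.app (op Z.unop.fiber) = (ψ X.unop.base).hom.app (op X.unop.fiber) ≫ T.obj.map g'.op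
      rw [hg, op_comp, Functor.map_comp, Functor.map_comp, Category.assoc]
      refine ((congrArg (M.obj.map _ ≫ ·) h2).trans ?_)
      rw [← Category.assoc, ← Category.assoc]
      exact congrArg (· ≫ _) h1
    · apply Sheaf.hom_ext
      ext U : 2
      have h := congrArg (fun η => (η ≫ (kappa Y).hom.app _).hom.app U) (hψ (bot D))
      simp only [toPush, Category.assoc] at h
      rw [(kappa Y).hom.naturality, ← Category.assoc, rho_kappa] at h
      erw [Category.id_comp] at h
      simp only [rho_kappa, Category.comp_id, Functor.id_map] at h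
      exact h

end Groth.Agent.FibSplit8
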