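import Groth.Agent.Lib.FibSplit8.Cart

/-!
# The functors between total sites attached to a split augmented family
-/

set_option autoImplicit false
set_option backward.isDefEq.respectTransparency false
set_option backward.isDefEq.respectTransparency.types false

universe u

open CategoryTheory CategoryTheory.Limits Opposite TopologicalSpace Pseudofunctor.CoGrothendieck FibDesc

noncomputable section

namespace Groth.Agent.FibSplit8

variable {D : Type} [Category.{0} D]

/-- A splitting of an augmented family of spaces. -/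
structure Splitting (Y : (WithInitial D)ᵒᵖ ⥤ TopCat.{u}) where
  /-- the shift of indices -/
  σ : (WithInitial D)ᵒᵖ ⥤ Dᵒᵖ
  /-- the shifted family maps to the family -/
  d : σ ⋙ toAug D ⟶ 𝟭 _
  /-- on the non-augmented part the maps come from the index category -/
  d₀ : ∀ i : Dᵒᵖ, σ.obj ((toAug D).obj i) ⟶ i
  hd₀ : ∀ i : Dᵒᵖ, (toAug D).map (d₀ i) = d.app ((toAug D).obj i)
  /-- the section -/
  s : Y ⟶ (σ ⋙ toAug D) ⋙ Y
  hs : ∀ i, s.app i ≫ Y.map (d.app i) = 𝟙 _

variable {Y : (WithInitial D)ᵒᵖ ⥤ TopCat.{u}} (S : Splitting Y)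

local notation "FY" => topAug Y
local notation "JY" => topAugTop Y

/-- The shifted family. -/
abbrev Splitting.Y' : (WithInitial D)ᵒᵖ ⥤ TopCat.{u} := (S.σ ⋙ toAug D) ⋙ Y

theorem hom_ext_part {a b : ∫ᶜ (part (topAug Y))} {φ ψ : a ⟶ b} (h : φ.base = ψ.base) : φ = ψ :=
  Pseudofunctor.CoGrothendieck.Hom.ext φ ψ h
    (@Subsingleton.elim (@Quiver.Hom (Opens (Y.obj ((toAug D).obj a.base))) _ _ _) _ _ _)

/-- An object of the total category of the part. -/
abbrev mkObjPart (Y : (WithInitial D)ᵒᵖ ⥤ TopCat.{u}) (i : Dᵒᵖ) (U : Opens (Y.obj ((toAug D).obj i))) :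
    ∫ᶜ (part (topAug Y)) := (ι (part (topAug Y)) i).obj U

/-- A morphism of the total category of the part. -/
def homMkPart {a b : ∫ᶜ (part (topAug Y))} (f : a.base ⟶ b.base)
    (h : @LE.le (Opens (Y.obj ((toAug D).obj a.base))) _ a.fiber
      ((Opens.map (Y.map ((toAug D).map f))).obj b.fiber)) : a ⟶ b :=
  ⟨f, homOfLE (X := Opens (Y.obj ((toAug D).obj a.base))) h⟩

/-- The shift functor to the part. -/
def shiftFunctor : ∫ᶜ (topAug S.Y') ⥤ ∫ᶜ (part FY) where
  obj X := mkObjPart Y (S.σ.obj X.base) (opn S.Y' X)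
  map {X Z} g := homMkPart (a := mkObjPart Y (S.σ.obj X.base) (opn S.Y' X))
    (b := mkObjPart Y (S.σ.obj Z.base) (opn S.Y' Z)) (S.σ.map g.base) (hom_le S.Y' g)
  map_id X := hom_ext_part (S.σ.map_id _)
  map_comp f g := hom_ext_part (S.σ.map_comp _ _)

theorem s_preimage {i j : (WithInitial D)ᵒᵖ} (f : i ⟶ j) (U : Opens (S.Y'.obj j)) :
    (Opens.map (S.s.app i)).obj ((Opens.map (S.Y'.map f)).obj U) =
      (Opens.map (Y.map f)).obj ((Opens.map (S.s.app j)).obj U) := by
  rw [← Opens.map_comp_obj, ← Opens.map_comp_obj, S.s.naturality]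

/-- The functor induced by the section. -/
def sectFunctor : ∫ᶜ (topAug S.Y') ⥤ ∫ᶜ FY where
  obj X := mkObj Y X.base ((Opens.map (S.s.app X.base)).obj (opn S.Y' X))
  map {X Z} g := homMk Y (a := mkObj Y X.base ((Opens.map (S.s.app X.base)).obj (opn S.Y' X)))
    (b := mkObj Y Z.base ((Opens.map (S.s.app Z.base)).obj (opn S.Y' Z))) g.base
    (le_trans (fun x hx => hom_le S.Y' g hx) (s_preimage S g.base (opn S.Y' Z)).le)
  map_id X := hom_ext Y rfl
  map_comp f g := hom_ext Y rfl

/-- The functor induced by the projection. -/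
def projFunctor : ∫ᶜ FY ⥤ ∫ᶜ (topAug S.Y') where
  obj X := mkObj S.Y' X.base ((Opens.map (Y.map (S.d.app X.base))).obj (opn Y X))
  map {X Z} g := homMk S.Y' (a := mkObj S.Y' X.base ((Opens.map (Y.map (S.d.app X.base))).obj (opn Y X)))
    (b := mkObj S.Y' Z.base ((Opens.map (Y.map (S.d.app Z.base))).obj (opn Y Z))) g.base (by
      refine le_trans (b := (Opens.map (Y.map (S.d.app X.base))).obj ((Opens.map (Y.map g.base)).obj (opn Y Z)))
        (fun x hx => hom_le Y g hx) (le_of_eq ?_)
      change (Opens.map (Y.map (S.d.app X.base))).obj ((Opens.map (Y.map g.base)).obj (opn Y Z)) =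
        (Opens.map (S.Y'.map g.base)).obj ((Opens.map (Y.map (S.d.app Z.base))).obj (opn Y Z))
      rw [← Opens.map_comp_obj, ← Opens.map_comp_obj, ← Y.map_comp]
      change _ = (Opens.map (Y.map ((S.σ ⋙ toAug D).map g.base) ≫ Y.map (S.d.app Z.base))).obj _
      rw [← Y.map_comp, S.d.naturality]
      rfl)
  map_id X := hom_ext S.Y' rfl
  map_comp f g := hom_ext S.Y' rfl

theorem map_id_obj (i : (WithInitial D)ᵒᵖ) (U : Opens (Y.obj i)) : (Opens.map (Y.map (𝟙 i))).obj U = U := by
  rw [Y.map_id]; rfl

theorem sect_proj (X : ∫ᶜ FY) :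
    (Opens.map (S.s.app X.base)).obj ((Opens.map (Y.map (S.d.app X.base))).obj (opn Y X)) = opn Y X := by
  rw [← Opens.map_comp_obj, S.hs]
  rfl

/-- The composite of projection and section is the identity. -/
def projSectIso : projFunctor S ⋙ sectFunctor S ≅ 𝟭 (∫ᶜ FY) :=
  NatIso.ofComponents (fun X =>
    { hom := homMk Y (a := (projFunctor S ⋙ sectFunctor S).obj X) (b := X) (𝟙 X.base) (by
        exact le_trans (le_of_eq (sect_proj S X)) (le_of_eq (map_id_obj X.base (opn Y X)).symm))
      inv := homMk Y (a := X) (b := (projFunctor S ⋙ sectFunctor S).obj X) (𝟙 X.base) (by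
        exact le_trans (le_of_eq (sect_proj S X).symm) (le_of_eq
          (map_id_obj X.base ((Opens.map (S.s.app X.base)).obj ((Opens.map (Y.map (S.d.app X.base))).obj (opn Y X)))).symm))
      hom_inv_id := hom_ext Y (Category.id_comp _)
      inv_hom_id := hom_ext Y (Category.id_comp _) })
    (fun g => hom_ext Y ((Category.comp_id g.base).trans (Category.id_comp g.base).symm))

/-- The transformation of the shifted total category to the original one. -/
def trans : projFunctor S ⋙ shiftFunctor S ⋙ incl FY ⟶ 𝟭 (∫ᶜ FY) where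
  app X := homMk Y (a := (projFunctor S ⋙ shiftFunctor S ⋙ incl FY).obj X) (b := X) (S.d.app X.base) le_rfl
  naturality X Z g := hom_ext Y (S.d.naturality g.base)

/-- The same transformation on the part. -/
def transPart : (incl FY ⋙ projFunctor S) ⋙ shiftFunctor S ⟶ 𝟭 (∫ᶜ (part FY)) where
  app X := homMkPart (a := ((incl FY ⋙ projFunctor S) ⋙ shiftFunctor S).obj X) (b := X) (S.d₀ X.base)
    (le_of_eq (by rw [S.hd₀]; rfl))
  naturality X Z g := hom_ext_part ((toAug D).map_injective (by
    change (toAug D).map (S.σ.map ((toAug D).map g.base) ≫ S.d₀ Z.base) =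
      (toAug D).map (S.d₀ X.base ≫ g.base)
    rw [(toAug D).map_comp, (toAug D).map_comp, S.hd₀, S.hd₀]
    exact S.d.naturality ((toAug D).map g.base)))

theorem incl_map_transPart (X : ∫ᶜ (part FY)) :
    (incl FY).map ((transPart S).app X) = (trans S).app ((incl FY).obj X) :=
  hom_ext Y (S.hd₀ X.base)

instance sect_continuous : (sectFunctor S).IsContinuous (totAug (topAug S.Y') (topAugTop S.Y')) (totAug FY JY) := by
  refine (FC16.FibTotal.isContinuous_iff (isPreFibSite S.Y') _ _).2 fun i => ?_
  haveI : (Opens.map (S.s.app i)).IsContinuous (topAugTop S.Y' i) (JY i) :=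
    inferInstanceAs ((Opens.map (S.s.app i)).IsContinuous _ _)
  haveI := ι_continuous Y i
  exact Functor.isContinuous_comp' (F₁ := Opens.map (S.s.app i)) (F₂ := ι FY i)
    (NatIso.ofComponents (fun U => Iso.refl _) fun g => hom_ext Y
      ((Category.comp_id _).trans (Category.id_comp _).symm)) (topAugTop S.Y' i) (JY i) _

instance shift_continuous :
    (shiftFunctor S).IsContinuous (totAug (topAug S.Y') (topAugTop S.Y')) (totPart FY JY) := by
  refine (FC16.FibTotal.isContinuous_iff (isPreFibSite S.Y') _ _).2 fun i => ?_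
  haveI : (ι (part FY) (S.σ.obj i)).IsContinuous (topAugTop S.Y' i) (totPart FY JY) :=
    FC16.FibTotal.ι_isContinuous (isPreFibSite_part Y) _
  exact Functor.isContinuous_of_iso (F₁ := ι (part FY) (S.σ.obj i)) (F₂ := ι (topAug S.Y') i ⋙ shiftFunctor S)
    (NatIso.ofComponents (fun U => Iso.refl _) fun g => hom_ext_part (by
      change 𝟙 _ ≫ 𝟙 _ = 𝟙 _ ≫ S.σ.map (𝟙 i)
      rw [S.σ.map_id])) _ _

instance shift_cocontinuous :
    (shiftFunctor S).IsCocontinuous (totAug (topAug S.Y') (topAugTop S.Y')) (totPart FY JY) where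
  cover_lift {X T} hT := by
    have h := (FC16.FibTotal.mem_total (isPreFibSite_part Y) T).1 hT
    rw [FC16.FibTotal.mem_total (isPreFibSite S.Y')]
    refine GrothendieckTopology.superset_covering _ ?_ h
    intro V g hg
    change T.arrows ((shiftFunctor S).map ((ι (topAug S.Y') X.base).map g))
    have : (shiftFunctor S).map ((ι (topAug S.Y') X.base).map g) = (ι (part FY) (S.σ.obj X.base)).map g :=
      hom_ext_part (S.σ.map_id X.base)
    rw [this]
    exact hg

instance sect_flat : RepresentablyFlat (sectFunctor S) where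
  cofiltered X := by
    -- the arrow to an object through an object over `X.base`
    let mkW : ∀ U : Opens (S.Y'.obj X.base), opn Y X ≤ (Opens.map (S.s.app X.base)).obj U →
        StructuredArrow X (sectFunctor S) := fun U hU =>
      StructuredArrow.mk (Y := mkObj S.Y' X.base U)
        (homMk Y (a := X) (b := (sectFunctor S).obj (mkObj S.Y' X.base U)) (𝟙 X.base)
          (le_trans hU (le_of_eq (map_id_obj X.base _).symm)))
    have key : ∀ a : StructuredArrow X (sectFunctor S),
        opn Y X ≤ (Opens.map (S.s.app X.base)).obj ((Opens.map (S.Y'.map a.hom.base)).obj (opn S.Y' a.right)) :=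
      fun a => (hom_le Y a.hom).trans (s_preimage S a.hom.base (opn S.Y' a.right)).ge
    have homW : ∀ U hU (a : StructuredArrow X (sectFunctor S)),
        U ≤ (Opens.map (S.Y'.map a.hom.base)).obj (opn S.Y' a.right) → ∃ t : mkW U hU ⟶ a, t.right.base = a.hom.base :=
      fun U hU a h => ⟨StructuredArrow.homMk (homMk S.Y' (a := mkObj S.Y' X.base U) (b := a.right) a.hom.base h)
        (hom_ext Y (Category.id_comp _)), rfl⟩
    haveI : Nonempty (StructuredArrow X (sectFunctor S)) := ⟨mkW ⊤ fun _ _ => trivial⟩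
    haveI : IsCofilteredOrEmpty (StructuredArrow X (sectFunctor S)) := by
      refine ⟨fun a b => ?_, fun a b f g => ?_⟩
      · obtain ⟨t, -⟩ := homW (((Opens.map (S.Y'.map a.hom.base)).obj (opn S.Y' a.right)) ⊓
          ((Opens.map (S.Y'.map b.hom.base)).obj (opn S.Y' b.right))) (fun x hx => ⟨key a hx, key b hx⟩) a inf_le_left
        obtain ⟨t', -⟩ := homW (((Opens.map (S.Y'.map a.hom.base)).obj (opn S.Y' a.right)) ⊓
          ((Opens.map (S.Y'.map b.hom.base)).obj (opn S.Y' b.right))) (fun x hx => ⟨key a hx, key b hx⟩) b inf_le_right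
        exact ⟨_, t, t', trivial⟩
      · obtain ⟨t, ht⟩ := homW _ (key a) a le_rfl
        refine ⟨_, t, StructuredArrow.hom_ext _ _ (hom_ext S.Y' ?_)⟩
        change t.right.base ≫ f.right.base = t.right.base ≫ g.right.base
        rw [ht]
        exact (congrArg Pseudofunctor.CoGrothendieck.Hom.base (StructuredArrow.w f)).trans
          (congrArg Pseudofunctor.CoGrothendieck.Hom.base (StructuredArrow.w g)).symm
    exact {}

end Groth.Agent.FibSplit8
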